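import Cfsg.Agent.SporB.Fi22.G.Check0
import Cfsg.Agent.SporB.Fi22.G.Check1
import Cfsg.Agent.SporB.Fi22.G.Check2
import Cfsg.Agent.SporB.Fi22.G.Check3

set_option autoImplicit false
set_option maxRecDepth 100000

namespace Cfsg.Agent.CosetEnum.Fi22.G

theorem dok0 : allRange sys.checkDef 0 1024 = true := by decide +kernel

theorem dok1 : allRange sys.checkDef 1024 1024 = true := by decide +kernel

theorem dok2 : allRange sys.checkDef 2048 1024 = true := by decide +kernel

theorem dok3 : allRange sys.checkDef 3072 437 = true := by decide +kernel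

def fchunks : List (ℕ × ℕ) := [(128, fv0), (128, fv1), (128, fv2), (128, fv3), (128, fv4), (128, fv5), (128, fv6), (128, fv7), (128, fv8), (128, fv9), (128, fv10), (128, fv11), (128, fv12), (128, fv13), (128, fv14), (128, fv15), (128, fv16), (128, fv17), (128, fv18), (128, fv19), (128, fv20), (128, fv21), (128, fv22), (128, fv23), (128, fv24), (128, fv25), (128, fv26), (128, fv27), (128, fv28), (128, fv29), (128, fv30), (128, fv31), (128, fv32), (128, fv33), (128, fv34), (128, fv35), (128, fv36), (128, fv37), (128, fv38), (128, fv39), (128, fv40), (128, fv41), (128, fv42), (128, fv43), (128, fv44), (128, fv45), (128, fv46), (128, fv47), (128, fv48), (128, fv49), (128, fv50), (128, fv51), (128, fv52), (128, fv53), (128, fv54), (128, fv55), (128, fv56), (128, fv57), (128, fv58), (128, fv59), (128, fv60), (128, fv61), (128, fv62), (128, fv63), (128, fv64), (128, fv65), (128, fv66), (128, fv67), (128, fv68), (128, fv69), (128, fv70), (128, fv71), (128, fv72), (128, fv73), (128, fv74), (128, fv75), (128, fv76), (128, fv77), (128, fv78), (128, fv79), (128, fv80),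 (128, fv81), (128, fv82), (128, fv83), (128, fv84), (128, fv85), (128, fv86), (128, fv87), (128, fv88), (128, fv89), (128, fv90), (128, fv91), (128, fv92), (128, fv93), (128, fv94), (128, fv95), (128, fv96), (128, fv97), (128, fv98), (128, fv99), (128, fv100), (128, fv101), (128, fv102), (128, fv103), (128, fv104), (128, fv105), (128, fv106), (128, fv107), (128, fv108), (128, fv109), (128, fv110), (128, fv111), (128, fv112), (128, fv113), (128, fv114), (128, fv115), (128, fv116), (128, fv117), (128, fv118), (128, fv119), (49, fv120)]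

def rchunks : List (ℕ × ℕ) := [(64, rv0), (64, rv1), (64, rv2), (64, rv3), (64, rv4), (64, rv5), (64, rv6), (64, rv7), (64, rv8), (64, rv9), (64, rv10), (64, rv11), (64, rv12), (64, rv13), (64, rv14), (64, rv15), (64, rv16), (64, rv17), (64, rv18), (64, rv19), (64, rv20), (64, rv21), (64, rv22), (64, rv23), (64, rv24), (64, rv25), (64, rv26), (64, rv27), (64, rv28), (64, rv29), (64, rv30), (64, rv31), (64, rv32), (64, rv33), (64, rv34), (64, rv35), (64, rv36), (64, rv37), (64, rv38), (64, rv39), (64, rv40), (64, rv41), (64, rv42), (64, rv43), (64, rv44), (64, rv45), (64, rv46), (64, rv47), (64, rv48), (64, rv49), (64, rv50), (64, rv51), (64, rv52), (64, rv53), (54, rv54)]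

theorem factsOK : sys.FactsOK 3509 fchunks := ⟨fok0, fok1, fok2, fok3, fok4, fok5, fok6, fok7, fok8, fok9, fok10, fok11, fok12, fok13, fok14, fok15, fok16, fok17, fok18, fok19, fok20, fok21, fok22, fok23, fok24, fok25, fok26, fok27, fok28, fok29, fok30, fok31, fok32, fok33, fok34, fok35, fok36, fok37, fok38, fok39, fok40, fok41, fok42, fok43, fok44, fok45, fok46, fok47, fok48, fok49, fok50, fok51, fok52, fok53, fok54, fok55, fok56, fok57, fok58, fok59, fok60, fok61, fok62, fok63, fok64, fok65, fok66, fok67, fok68, fok69, fok70, fok71, fok72, fok73, fok74, fok75, fok76, fok77, fok78, fok79, fok80, fok81, fok82, fok83, fok84, fok85, fok86, fok87, fok88, fok89, fok90, fok91, fok92, fok93, fok94, fok95, fok96, fok97, fok98, fok99, fok100, fok101, fok102, fok103, fok104, fok105, fok106, fok107, fok108, fok109, fok110, fok111, fok112, fok113, fok114, fok115, fok116, fok117, fok118, fok119, fok120, trivial⟩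

theorem rowsOK : sys.RowsOK 3510 18918 0 rchunks := ⟨rok0, rok1, rok2, rok3, rok4, rok5, rok6, rok7, rok8, rok9, rok10, rok11, rok12, rok13, rok14, rok15, rok16, rok17, rok18, rok19, rok20, rok21, rok22, rok23, rok24, rok25, rok26, rok27, rok28, rok29, rok30, rok31, rok32, rok33, rok34, rok35, rok36, rok37, rok38, rok39, rok40, rok41, rok42, rok43, rok44, rok45, rok46, rok47, rok48, rok49, rok50, rok51, rok52, rok53, rok54, trivial⟩

theorem cert : Cert sys 3510 3509 18918 :=
  Cert.of_chunks [1024,1024,1024,437] fchunks rchunks (by decide) ⟨dok0, dok1, dok2, dok3, trivial⟩ (by decide +kernel) factsOK (by decide +kernel) rowsOK (by decide +kernel)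

theorem rules_ok : sys.rules.all (fun R => R.check sys rels subs) = true := by decide +kernel

theorem inv_ok : allRange (fun l => Nat.beq (sys.inv l) l) 0 (sys.nl + 1) = true := by decide +kernel

end Cfsg.Agent.CosetEnum.Fi22.G
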